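import Cfsg.Agent.H649.VanSp4.Main
import Cfsg.Agent.H720.PV.PSpField

/-!
# The row `PSp` of S4555 and S4559 (helper649)
-/

set_option autoImplicit false

open Cfsg

namespace Cfsg.Agent.H649.VanSp4

universe u

/-- **The row `PSp_{2m}(q)`.** -/
theorem psp (K : Type u) [Group K] [Finite K] [IsSimpleGroup K] (p r : ℕ) (hp : p.Prime) (hr : r.Prime) (hpr : p ≠ r)
    (h : IsPSpChar r K) (hd : p ∣ Nat.card K) : H620.PNorm.VOrdP p K :=
  Cfsg.Agent.H720.PV.psp_of (fun _ _ _ _ h8 _ _ _ hd => vOrdP_sp4 h8 hd) K p r hp hr hpr h hd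

end Cfsg.Agent.H649.VanSp4
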