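import Cfsg.Agent.H183.NfSp
import Cfsg.Agent.H129.CycT
import Cfsg.Agent.H376.SpEmb
import Cfsg.Agent.H292.SpCen

/-!
# The torus of order `q² + 1` of `Sp₄(q)`, `q` even (helper649)

* `cycExact_psp` : a cyclic subgroup of order `q² + 1` of `PSp₄(q)` which is the centralizer of each of its nonidentity
  elements;
* `cop_psp` : the order of a subgroup which normalizes a nontrivial `2`-subgroup is prime to `q² + 1`.
-/

set_option autoImplicit false

namespace Cfsg.Agent.H649.VanSp4

open Module Subgroup Cfsg Cfsg.Agent.H183.NF4 Cfsg.Agent.H129.CycT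

universe u v w

theorem order_four {q r : ℕ} (hr : r.Prime) (hq : 2 ∣ q) (hd : r ∣ q ^ 2 + 1) : orderOf (q : ZMod r) = 4 := by
  have := Fact.mk hr
  have hr2 : r ≠ 2 := by
    rintro rfl
    obtain ⟨k, rfl⟩ := hq
    have h1 : (2 * k) ^ 2 + 1 = 2 * (2 * k ^ 2) + 1 := by ring
    rw [h1] at hd
    omega
  have h1 : (q : ZMod r) ^ 2 = -1 := by
    have h2 : ((q ^ 2 + 1 : ℕ) : ZMod r) = 0 := (ZMod.natCast_eq_zero_iff _ _).2 hd
    push_cast at h2
    exact eq_neg_of_add_eq_zero_left h2
  have h3 : (1 : ZMod r) ≠ -1 := by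
    intro h
    have h4 : ((2 : ℕ) : ZMod r) = 0 := by
      push_cast
      have h5 : (1 : ZMod r) + 1 = 0 := by
        nth_rw 2 [h]
        exact add_neg_cancel 1
      rw [← h5]
      norm_num
    rw [ZMod.natCast_eq_zero_iff] at h4
    exact hr2 ((Nat.prime_dvd_prime_iff_eq hr Nat.prime_two).1 h4)
  refine orderOf_eq_prime_pow (p := 2) (n := 1) ?_ ?_
  · rw [pow_one, h1]
    exact fun h => h3 h.symm
  · rw [show 2 ^ (1 + 1) = 2 * 2 by norm_num, pow_mul, h1]
    norm_num

section

variable {F : Type u} [Field F] [Fintype F] {V : Type v} [AddCommGroup V] [Module F V] [FiniteDimensional F V]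
  {Y : Type w} [Group Y] [Finite Y] (D : Dat F V Y)

include D

/-- **The torus.** -/
theorem cycExact_dat (h2 : 2 ∣ Fintype.card F) {y0 : Y} (h0 : orderOf y0 = Fintype.card F ^ 2 + 1)
    (hcyc : ∀ r : ℕ, r.Prime → orderOf ((Fintype.card F : ℕ) : ZMod r) = 4 → ∀ R : Subgroup Y, IsPGroup r R →
      IsCyclic R) : CycExact Y (Fintype.card F ^ 2 + 1) := by
  refine exact_of (T := zpowers y0) inferInstance (by rw [Nat.card_zpowers, h0]) ?_
  intro r hr hrd y hy hyr
  have ho := order_four hr h2 hrd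
  have hirr := D.irr_of_order hr ho hyr
  have hyq : y ^ (Fintype.card F ^ 2 + 1) = 1 := by
    rw [← orderOf_dvd_iff_pow_eq_one, hyr]
    exact hrd
  have hle : zpowers y0 ≤ centralizer ({y} : Set Y) := by
    rw [zpowers_le, mem_centralizer_singleton_iff]
    obtain ⟨k, rfl⟩ := mem_zpowers_iff.1 hy
    rw [← zpow_one_add, ← zpow_add_one, add_comm]
  have hexp : ∀ c ∈ centralizer ({y} : Set Y), c ^ (Fintype.card F ^ 2 + 1) = 1 := by
    intro c hc
    rw [mem_centralizer_singleton_iff] at hc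
    exact D.pow_eq_one_of_comm hirr hyq hc.symm
  have hdvd : Nat.card (centralizer ({y} : Set Y)) ∣ Fintype.card F ^ 2 + 1 := by
    rw [Nat.dvd_iff_prime_pow_dvd_dvd]
    intro s k hs hk
    have := Fact.mk hs
    rcases Nat.eq_zero_or_pos k with rfl | hk0
    · rw [pow_zero]
      exact one_dvd _
    obtain ⟨K, hK⟩ := Sylow.exists_subgroup_card_pow_prime s hk
    have hKp : IsPGroup s K := IsPGroup.of_card hK
    have hsd : s ∣ Fintype.card F ^ 2 + 1 := by
      obtain ⟨c, hc⟩ := exists_prime_orderOf_dvd_card' (G := K) s (by rw [hK]; exact dvd_pow_self s hk0.ne')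
      have h3 := hexp _ c.1.2
      rw [← orderOf_dvd_iff_pow_eq_one, Subgroup.orderOf_coe, Subgroup.orderOf_coe, hc] at h3
      exact h3
    have hc1 := hcyc s hs (order_four hs h2 hsd) (K.map (centralizer ({y} : Set Y)).subtype) (hKp.map _)
    have hc2 : IsCyclic K :=
      isCyclic_of_injective (K.equivMapOfInjective (centralizer ({y} : Set Y)).subtype
        (Subgroup.subtype_injective _)).toMonoidHom (MulEquiv.injective _)
    obtain ⟨g, hg⟩ := IsCyclic.exists_ofOrder_eq_natCard (α := K)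
    have h3 := hexp _ g.1.2
    rw [← orderOf_dvd_iff_pow_eq_one, Subgroup.orderOf_coe, Subgroup.orderOf_coe, hg, hK] at h3
    exact h3
  have heq : zpowers y0 = centralizer ({y} : Set Y) := by
    refine Subgroup.eq_of_le_of_card_ge hle ?_
    rw [Nat.card_zpowers, h0]
    exact Nat.le_of_dvd (Nat.succ_pos _) hdvd
  exact heq.ge

/-- a subgroup which normalizes a nontrivial `2`-subgroup -/
theorem cop_dat (h2 : 2 ∣ Fintype.card F) {P K : Subgroup Y} (hK : IsPGroup 2 K) (hK1 : K ≠ ⊥)
    (hP : P ≤ Subgroup.normalizer (K : Set Y)) : (Nat.card P).Coprime (Fintype.card F ^ 2 + 1) := by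
  refine Nat.coprime_of_dvd fun r hr h3 h4 => ?_
  have := Fact.mk hr
  obtain ⟨y, hy⟩ := exists_prime_orderOf_dvd_card' (G := P) r h3
  have hy' : orderOf (y : Y) = r := by rw [Subgroup.orderOf_coe, hy]
  have ho := order_four hr h2 h4
  have hirr := D.irr_of_order hr ho hy'
  rcases hirr (D.fixU K) (Dat.fixU_invariant fun u hu => by
    have h5 := (Subgroup.mem_normalizer_iff.1 (inv_mem (hP y.2)) u).1 hu
    rwa [inv_inv] at h5) with h5 | h5
  · obtain ⟨v, -, hv0, hv⟩ := D.exists_fixed Nat.prime_two h2 hK ⊤ (fun _ _ _ _ => trivial) (by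
      intro h6
      have h7 : finrank F V = 0 := by
        have : Subsingleton V := (Submodule.subsingleton_iff F).1 (subsingleton_of_bot_eq_top h6.symm)
        exact finrank_zero_of_subsingleton
      rw [D.dim] at h7
      omega)
    have h6 : v ∈ D.fixU K := hv
    rw [h5, Submodule.mem_bot] at h6
    exact hv0 h6
  · exact hK1 (Dat.eq_bot_of_fixU h5)

end

section

variable {F : Type} [Field F] [Fintype F] [CharP F 2]

theorem two_dvd_card : 2 ∣ Fintype.card F := by
  have := Fact.mk Nat.prime_two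
  obtain ⟨n, -, hn⟩ := FiniteField.card F 2
  rw [hn]
  exact dvd_pow_self 2 n.ne_zero

/-- the representation of `PSp₄(q)`, `q` even -/
noncomputable def pspDat (F : Type) [Field F] [CharP F 2] : Dat F (Fin 2 ⊕ Fin 2 → F) (PSp 2 F) :=
  (spDat F).comp (H292.SpCen.spEquiv 2).symm.toMonoidHom (MulEquiv.injective _)

theorem cycExact_psp : CycExact (PSp 2 F) (Fintype.card F ^ 2 + 1) := by
  obtain ⟨A, hA⟩ := H376.SpEmb.exists_plus F 2 two_ne_zero
  have hfin : Finite (PSp 2 F) := Finite.of_equiv _ (H292.SpCen.spEquiv (F := F) 2).toEquiv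
  refine cycExact_dat (pspDat F) two_dvd_card (y0 := H292.SpCen.spEquiv 2 A) ?_ ?_
  · rw [MulEquiv.orderOf_eq, hA, Nat.card_eq_fintype_card]
  · intro r hr ho R hR
    have h1 := r_cyclic (F := F) rfl hr ho (R.map (H292.SpCen.spEquiv (F := F) 2).symm.toMonoidHom) (hR.map _)
    exact isCyclic_of_injective (R.equivMapOfInjective (H292.SpCen.spEquiv (F := F) 2).symm.toMonoidHom
      (MulEquiv.injective _)).toMonoidHom (MulEquiv.injective _)

theorem cop_psp {P K : Subgroup (PSp 2 F)} (hK : IsPGroup 2 K) (hK1 : K ≠ ⊥)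
    (hP : P ≤ Subgroup.normalizer (K : Set (PSp 2 F))) : (Nat.card P).Coprime (Fintype.card F ^ 2 + 1) := by
  have hfin : Finite (PSp 2 F) := Finite.of_equiv _ (H292.SpCen.spEquiv (F := F) 2).toEquiv
  exact cop_dat (pspDat F) two_dvd_card hK hK1 hP

end

end Cfsg.Agent.H649.VanSp4
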